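import Groth.Agent.S7180
import Groth.Prelude.Def_ega3
import Mathlib

/-!
# Etale universally closed morphisms with constant fibre degree are finite
-/

set_option autoImplicit false
set_option backward.isDefEq.respectTransparency false
set_option backward.isDefEq.respectTransparency.types false
set_option linter.style.haveILetI false

universe u

open CategoryTheory CategoryTheory.Limits AlgebraicGeometry TensorProduct

noncomputable section

namespace Groth.Agent.EtFin

theorem locallyQuasiFinite_of_etale {X Y : Scheme.{u}} (f : X ⟶ Y) [Etale f] : LocallyQuasiFinite f := by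
  refine (HasRingHomProperty.iff_appLE (P := @LocallyQuasiFinite)).2 fun U V e => ?_
  have h : (f.appLE U V e).hom.Etale := HasRingHomProperty.appLE @Etale f ‹_› U V e
  algebraize [(f.appLE U V e).hom]
  exact ⟨fun P _ => Algebra.FormallyUnramified.finite_of_free _ _⟩

/-- Geometric points of an étale quasi-compact scheme over a field. -/
theorem card_pullback {F : Type u} [Field F] {Z : Scheme.{u}} (g : Z ⟶ Spec (CommRingCat.of F)) [Etale g]
    [QuasiCompact g] {L : Type u} [Field L] [IsAlgClosed L] (j : F →+* L) :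
    letI := (g.appTop.hom.comp (Scheme.ΓSpecIso (CommRingCat.of F)).inv.hom).toAlgebra
    Finite ↥(pullback g (Spec.map (CommRingCat.ofHom j))) ∧
      Nat.card ↥(pullback g (Spec.map (CommRingCat.ofHom j))) = Module.finrank F Γ(Z, ⊤) := by
  haveI : IsArtinianRing (CommRingCat.of F) := inferInstanceAs (IsArtinianRing F)
  haveI : IsLocallyArtinian (Spec (CommRingCat.of F)) := Scheme.isLocallyArtinianScheme_Spec.2 inferInstance
  haveI : LocallyQuasiFinite g := locallyQuasiFinite_of_etale g
  haveI : IsFinite g := IsFinite.of_locallyQuasiFinite g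
  haveI : IsAffine Z := isAffine_of_isAffineHom g
  let φ : CommRingCat.of F ⟶ Γ(Z, ⊤) := (Scheme.ΓSpecIso (CommRingCat.of F)).inv ≫ g.appTop
  letI : Algebra F Γ(Z, ⊤) := φ.hom.toAlgebra
  letI : Algebra F L := j.toAlgebra
  have hg : Z.isoSpec.hom ≫ Spec.map φ = g := by
    rw [Spec.map_comp, Scheme.isoSpec_hom, ← Scheme.toSpecΓ_naturality_assoc, ← SpecMap_ΓSpecIso_hom,
      ← Spec.map_comp, Iso.inv_hom_id, Spec.map_id, Category.comp_id]
  haveI : Etale (Spec.map φ) := by
    rw [show Spec.map φ = Z.isoSpec.inv ≫ g by rw [← hg, Iso.inv_hom_id_assoc]]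
    infer_instance
  haveI : Algebra.Etale F Γ(Z, ⊤) := RingHom.etale_algebraMap.1 ((HasRingHomProperty.Spec_iff (P := @Etale)).1 ‹_›)
  let e1 : pullback g (Spec.map (CommRingCat.ofHom j)) ≅ Spec (CommRingCat.of (Γ(Z, ⊤) ⊗[F] L)) :=
    pullback.congrHom hg.symm rfl ≪≫
      asIso (pullback.map _ _ (Spec.map (CommRingCat.ofHom (algebraMap F Γ(Z, ⊤)))) (Spec.map (CommRingCat.ofHom (algebraMap F L)))
        Z.isoSpec.hom (𝟙 _) (𝟙 _) (by rw [Category.comp_id]; rfl) (by rw [Category.comp_id, Category.id_comp]; rfl)) ≪≫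
      pullbackSpecIso F Γ(Z, ⊤) L
  let e2 := (Algebra.TensorProduct.comm F Γ(Z, ⊤) L).toRingEquiv
  haveI : Module.Finite F Γ(Z, ⊤) := Algebra.FormallyUnramified.finite_of_free F Γ(Z, ⊤)
  haveI : Algebra.Etale L (L ⊗[F] Γ(Z, ⊤)) := inferInstance
  haveI : Module.Finite L (L ⊗[F] Γ(Z, ⊤)) := inferInstance
  haveI : IsArtinianRing (L ⊗[F] Γ(Z, ⊤)) := isArtinian_of_tower L inferInstance
  let E := Algebra.FormallyEtale.equivPiOfIsSepClosed L (L ⊗[F] Γ(Z, ⊤))
  haveI : Finite (PrimeSpectrum (L ⊗[F] Γ(Z, ⊤))) := inferInstance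
  letI := Fintype.ofFinite (PrimeSpectrum (L ⊗[F] Γ(Z, ⊤)))
  have hcard : Nat.card (PrimeSpectrum (L ⊗[F] Γ(Z, ⊤))) = Module.finrank F Γ(Z, ⊤) := by
    have h := E.toLinearEquiv.finrank_eq
    rw [Module.finrank_baseChange, Module.finrank_pi] at h
    rw [h, Nat.card_eq_fintype_card]
  let e3 : ↥(pullback g (Spec.map (CommRingCat.ofHom j))) ≃ PrimeSpectrum (L ⊗[F] Γ(Z, ⊤)) :=
    e1.hom.homeomorph.toEquiv.trans (PrimeSpectrum.homeomorphOfRingEquiv e2).toEquiv
  exact ⟨Finite.of_equiv _ e3.symm, (Nat.card_congr e3).trans hcard⟩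

variable {T S : Scheme.{u}} (f : T ⟶ S) [Etale f] [QuasiCompact f] (d : ℕ)

/-- Geometric fibres have `d` points. -/
theorem card_geom (hd : ∀ s : S, Module.finrank (S.residueField s) Γ(f.fiber s, ⊤) = d) {L : Type u} [Field L]
    [IsAlgClosed L] (t : Spec (CommRingCat.of L) ⟶ S) : Finite ↥(pullback f t) ∧ Nat.card ↥(pullback f t) = d := by
  let s := t (IsLocalRing.closedPoint L)
  let jh := Scheme.descResidueField (Scheme.stalkClosedPointTo t)
  have ht : Spec.map jh ≫ S.fromSpecResidueField s = t :=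
    Scheme.descResidueField_stalkClosedPointTo_fromSpecResidueField L S t
  haveI : Etale (f.fiberToSpecResidueField s) := MorphismProperty.pullback_snd _ _ inferInstance
  haveI : QuasiCompact (f.fiberToSpecResidueField s) := MorphismProperty.pullback_snd _ _ inferInstance
  let e : pullback (f.fiberToSpecResidueField s) (Spec.map jh) ≅ pullback f t :=
    pullbackLeftPullbackSndIso f (S.fromSpecResidueField s) (Spec.map jh) ≪≫ pullback.congrHom rfl ht
  obtain ⟨h1, h2⟩ := card_pullback (F := S.residueField s) (f.fiberToSpecResidueField s) (L := L) jh.hom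
  haveI := h1
  exact ⟨Finite.of_equiv _ e.hom.homeomorph.toEquiv,
    (Nat.card_congr e.hom.homeomorph.toEquiv).symm.trans (h2.trans (hd s))⟩

omit [Etale f] [QuasiCompact f] in
/-- Maps out of a local scheme are determined by the closed point and an injective extension. -/
theorem hom_ext_local {X : Scheme.{u}} {R B : Type u} [CommRing R] [IsLocalRing R] [CommRing B] (φ : R →+* B)
    (hφ : Function.Injective φ) (a b : Spec (CommRingCat.of R) ⟶ X)
    (h : Spec.map (CommRingCat.ofHom φ) ≫ a = Spec.map (CommRingCat.ofHom φ) ≫ b)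
    (hc : a (IsLocalRing.closedPoint R) = b (IsLocalRing.closedPoint R)) : a = b := by
  obtain ⟨U, hU, hxU, -⟩ := exists_isAffineOpen_mem_and_subset (x := a (IsLocalRing.closedPoint R)) (U := ⊤) trivial
  have hr : ∀ c : Spec (CommRingCat.of R) ⟶ X, c (IsLocalRing.closedPoint R) ∈ U →
      Set.range c ⊆ Set.range hU.fromSpec := by
    rintro c hc _ ⟨p, rfl⟩
    rw [hU.range_fromSpec]
    exact ((IsLocalRing.specializes_closedPoint p).map c.continuous).mem_open U.2 hc
  obtain ⟨α, hα⟩ := Spec.map_surjective (IsOpenImmersion.lift hU.fromSpec a (hr a hxU))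
  obtain ⟨β, hβ⟩ := Spec.map_surjective (IsOpenImmersion.lift hU.fromSpec b (hr b (hc ▸ hxU)))
  have ha : Spec.map α ≫ hU.fromSpec = a := by rw [hα, IsOpenImmersion.lift_fac]
  have hb : Spec.map β ≫ hU.fromSpec = b := by rw [hβ, IsOpenImmersion.lift_fac]
  have h' : α ≫ CommRingCat.ofHom φ = β ≫ CommRingCat.ofHom φ := Spec.map_injective (by
    rw [← cancel_mono hU.fromSpec, Spec.map_comp, Spec.map_comp, Category.assoc, Category.assoc, ha, hb, h])
  rw [← ha, ← hb, show α = β from CommRingCat.hom_ext (RingHom.ext fun r => hφ (congrArg (fun m => m.hom r) h'))]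

theorem isNormalScheme_spec_of_isIntegrallyClosed (A : Type u) [CommRing A] [IsDomain A] [IsIntegrallyClosed A] :
    Pi1.IsNormalScheme (Spec (CommRingCat.of A)) := by
  intro x
  let e := StructureSheaf.stalkIso A x
  have hle := x.asIdeal.primeCompl_le_nonZeroDivisors
  haveI : IsDomain (Localization.AtPrime x.asIdeal) := IsLocalization.isDomain_localization hle
  haveI : IsIntegrallyClosed (Localization.AtPrime x.asIdeal) := isIntegrallyClosed_of_isLocalization _ x.asIdeal.primeCompl hle
  let r : Localization.AtPrime x.asIdeal ≃+* (Spec (CommRingCat.of A)).presheaf.stalk x := e.toRingEquiv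
  exact ⟨r.symm.toMulEquiv.isDomain (Localization.AtPrime x.asIdeal), IsIntegrallyClosed.of_equiv r⟩

/-- Over a valuation ring with algebraically closed fraction field, sections agreeing generically agree. -/
theorem sections_ext (hd : ∀ s : S, Module.finrank (S.residueField s) Γ(f.fiber s, ⊤) = d) [UniversallyClosed f]
    (A : Type u) [CommRing A] [IsDomain A] [ValuationRing A] (K : Type u) [Field K] [IsAlgClosed K]
    [Algebra A K] [IsFractionRing A K] (t : Spec (CommRingCat.of A) ⟶ S) (a b : Spec (CommRingCat.of A) ⟶ T)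
    (ha : a ≫ f = t) (hb : b ≫ f = t)
    (h : Spec.map (CommRingCat.ofHom (algebraMap A K)) ≫ a = Spec.map (CommRingCat.ofHom (algebraMap A K)) ≫ b) :
    a = b := by
  refine hom_ext_local (algebraMap A K) (IsFractionRing.injective A K) a b h ?_
  let P := pullback f t
  let g : P ⟶ Spec (CommRingCat.of A) := pullback.snd f t
  let η : Spec (CommRingCat.of A) := (⟨⊥, Ideal.isPrime_bot⟩ : PrimeSpectrum A)
  let cp : Spec (CommRingCat.of A) := IsLocalRing.closedPoint A
  haveI : Etale g := MorphismProperty.pullback_snd _ _ inferInstance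
  haveI : QuasiCompact g := MorphismProperty.pullback_snd _ _ inferInstance
  haveI : UniversallyClosed g := MorphismProperty.pullback_snd _ _ inferInstance
  haveI : LocallyQuasiFinite g := locallyQuasiFinite_of_etale g
  have hPn : Pi1.IsNormalScheme P := S7180.result g (isNormalScheme_spec_of_isIntegrallyClosed A)
  let iη : Spec (CommRingCat.of K) ⟶ Spec (CommRingCat.of A) := Spec.map (CommRingCat.ofHom (algebraMap A K))
  haveI : IsPreimmersion iη := IsPreimmersion.of_isLocalization (nonZeroDivisors A)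
  have hiη : ∀ p, iη p = η := fun p => PrimeSpectrum.ext (by
    show Ideal.comap (algebraMap A K) p.asIdeal = ⊥
    rcases Ideal.eq_bot_or_top p.asIdeal with h0 | h0
    · rw [h0, ← RingHom.ker_eq_comap_bot, (RingHom.injective_iff_ker_eq_bot _).1 (IsFractionRing.injective A K)]
    · exact absurd h0 p.2.ne_top)
  -- the generic fibre
  let Pη := pullback g iη
  let eη : Pη ≅ pullback f (iη ≫ t) := pullbackLeftPullbackSndIso f t iη
  obtain ⟨h1, h2⟩ := card_geom f d hd (iη ≫ t)
  haveI := h1
  haveI hfinη : Finite ↥Pη := Finite.of_equiv _ eη.hom.homeomorph.toEquiv.symm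
  have hcardη : Nat.card ↥Pη = d := (Nat.card_congr eη.hom.homeomorph.toEquiv).trans h2
  have hrη : Set.range (pullback.fst g iη) = g ⁻¹' {η} := by
    rw [Scheme.Pullback.range_fst]
    congr 1
    exact Set.ext fun q => ⟨fun ⟨p, hp⟩ => hp ▸ hiη p, fun hq => ⟨IsLocalRing.closedPoint K, (hiη _).trans hq.symm⟩⟩
  -- the special fibre
  let κ := IsLocalRing.ResidueField A
  let ic : Spec (CommRingCat.of (AlgebraicClosure κ)) ⟶ Spec (CommRingCat.of A) :=
    Spec.map (CommRingCat.ofHom ((algebraMap κ (AlgebraicClosure κ)).comp (IsLocalRing.residue A)))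
  have hic : ∀ p, ic p = cp := fun p => PrimeSpectrum.ext (by
    show Ideal.comap ((algebraMap κ (AlgebraicClosure κ)).comp (IsLocalRing.residue A)) p.asIdeal = IsLocalRing.maximalIdeal A
    rcases Ideal.eq_bot_or_top p.asIdeal with h0 | h0
    · rw [h0, ← RingHom.ker_eq_comap_bot, RingHom.ker_comp_of_injective _ (algebraMap κ (AlgebraicClosure κ)).injective,
        IsLocalRing.ker_residue]
    · exact absurd h0 p.2.ne_top)
  obtain ⟨h3, h4⟩ := card_geom f d hd (ic ≫ t)
  haveI := h3
  let ec : pullback g ic ≅ pullback f (ic ≫ t) := pullbackLeftPullbackSndIso f t ic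
  haveI : Finite ↥(pullback g ic) := Finite.of_equiv _ ec.hom.homeomorph.toEquiv.symm
  have hrc : Set.range (pullback.fst g ic) = g ⁻¹' {cp} := by
    rw [Scheme.Pullback.range_fst]
    congr 1
    exact Set.ext fun q => ⟨fun ⟨p, hp⟩ => hp ▸ hic p,
      fun hq => ⟨IsLocalRing.closedPoint (AlgebraicClosure κ), (hic _).trans hq.symm⟩⟩
  haveI hfinc : Finite ↥(g ⁻¹' {cp}) := hrc ▸ (Set.finite_range (pullback.fst g ic)).to_subtype
  have hcardc : Nat.card ↥(g ⁻¹' {cp}) ≤ d := by
    rw [← hrc, ← h4, ← Nat.card_congr ec.hom.homeomorph.toEquiv]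
    exact Nat.card_le_card_of_surjective _ Set.rangeFactorization_surjective
  -- specialisation
  have hex : ∀ y : Pη, ∃ x : ↥(g ⁻¹' {cp}), (pullback.fst g iη y) ⤳ x.1 := fun y => by
    have hy : g (pullback.fst g iη y) = η := by
      have : pullback.fst g iη y ∈ g ⁻¹' {η} := hrη ▸ ⟨y, rfl⟩
      exact this
    have hcl : IsClosed (g '' closure {pullback.fst g iη y}) := g.isClosedMap _ isClosed_closure
    obtain ⟨x, hx, hgx⟩ : cp ∈ g '' closure {pullback.fst g iη y} :=
      (IsLocalRing.specializes_closedPoint η).mem_closed hcl ⟨_, subset_closure rfl, hy⟩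
    exact ⟨⟨x, hgx⟩, specializes_iff_mem_closure.2 hx⟩
  choose Φ hΦ using hex
  have hgen : ∀ (x : P) (y y' : P), g y = η → g y' = η → y ⤳ x → y' ⤳ x → y = y' := by
    intro x y y' hy hy' h5 h6
    haveI := (hPn x).1
    let y0 := P.fromSpecStalk x (⟨⊥, Ideal.isPrime_bot⟩ : PrimeSpectrum (P.presheaf.stalk x))
    have key : ∀ w : P, g w = η → w ⤳ x → y0 = w := fun w hw hwx => by
      obtain ⟨p, rfl⟩ : w ∈ Set.range (P.fromSpecStalk x) := by rw [P.range_fromSpecStalk]; exact hwx
      have hsp : y0 ⤳ P.fromSpecStalk x p :=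
        ((PrimeSpectrum.le_iff_specializes _ _).1 bot_le).map (P.fromSpecStalk x).continuous
      have hy0 : g y0 = η := by
        have h7 := hsp.map g.continuous
        rw [hw] at h7
        exact (h7.antisymm ((PrimeSpectrum.le_iff_specializes _ _).1 (bot_le : η.asIdeal ≤ _))).eq
      haveI : DiscreteTopology ↥(g ⁻¹' {η}) := isDiscrete_iff_discreteTopology.1 (g.isDiscrete_preimage_singleton η)
      have h8 : (⟨y0, hy0⟩ : ↥(g ⁻¹' {η})) ⤳ ⟨P.fromSpecStalk x p, hw⟩ :=
        Topology.IsInducing.subtypeVal.specializes_iff.1 hsp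
      have h9 : y0 = P.fromSpecStalk x p := Subtype.mk.inj h8.eq
      exact h9
    exact (key y hy h5).symm.trans (key y' hy' h6)
  have hΦinj : Function.Injective Φ := fun y y' e => by
    apply (pullback.fst g iη).isEmbedding.injective
    have hy : ∀ z : Pη, g (pullback.fst g iη z) = η := fun z => by
      have : pullback.fst g iη z ∈ g ⁻¹' {η} := hrη ▸ ⟨z, rfl⟩
      exact this
    exact hgen _ _ _ (hy y) (hy y') (hΦ y) (e ▸ hΦ y')
  have hΦsurj : Function.Surjective Φ := by
    letI := Fintype.ofFinite ↥(g ⁻¹' {cp})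
    letI := Fintype.ofFinite ↥Pη
    refine (Fintype.bijective_iff_injective_and_card Φ).2 ⟨hΦinj, ?_⟩ |>.2
    have := Nat.card_le_card_of_injective Φ hΦinj
    rw [← Nat.card_eq_fintype_card, ← Nat.card_eq_fintype_card]
    omega
  have huniq : ∀ (y : P) (x x' : P), g y = η → g x = cp → g x' = cp → y ⤳ x → y ⤳ x' → x = x' := by
    intro y x x' hy hx hx' h5 h6
    obtain ⟨z, hz⟩ := hΦsurj ⟨x, hx⟩
    obtain ⟨z', hz'⟩ := hΦsurj ⟨x', hx'⟩
    have hy' : ∀ z : Pη, g (pullback.fst g iη z) = η := fun z => by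
      have : pullback.fst g iη z ∈ g ⁻¹' {η} := hrη ▸ ⟨z, rfl⟩
      exact this
    have e1 := hgen x _ y (hy' z) hy (by have := hΦ z; rwa [hz] at this) h5
    have e2 := hgen x' _ y (hy' z') hy (by have := hΦ z'; rwa [hz'] at this) h6
    have : z = z' := (pullback.fst g iη).isEmbedding.injective (e1.trans e2.symm)
    subst this
    exact congrArg Subtype.val (hz.symm.trans hz')
  -- the two sections
  let a' : Spec (CommRingCat.of A) ⟶ P := pullback.lift a (𝟙 _) (by rw [ha, Category.id_comp])
  let b' : Spec (CommRingCat.of A) ⟶ P := pullback.lift b (𝟙 _) (by rw [hb, Category.id_comp])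
  have hab : iη ≫ a' = iη ≫ b' := by
    apply pullback.hom_ext
    · rw [Category.assoc, Category.assoc, pullback.lift_fst, pullback.lift_fst]; exact h
    · rw [Category.assoc, Category.assoc, pullback.lift_snd, pullback.lift_snd]
  have hg : ∀ q, g (a' q) = q ∧ g (b' q) = q := fun q => by
    constructor <;> rw [← Scheme.Hom.comp_apply, pullback.lift_snd] <;> rfl
  have he : a' η = b' η := by
    have := congrArg (fun m => m.base (IsLocalRing.closedPoint K)) hab
    simp only [Scheme.Hom.comp_apply, hiη] at this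
    exact this
  have hx := huniq (a' η) (a' cp) (b' cp) (hg η).1 (hg cp).1 (hg cp).2
    ((IsLocalRing.specializes_closedPoint η).map a'.continuous)
    (he ▸ (IsLocalRing.specializes_closedPoint η).map b'.continuous)
  have := congrArg (pullback.fst f t) hx
  rwa [← Scheme.Hom.comp_apply, ← Scheme.Hom.comp_apply, pullback.lift_fst, pullback.lift_fst] at this

theorem isFinite [QuasiSeparated f] [UniversallyClosed f]
    (hd : ∀ s : S, Module.finrank (S.residueField s) Γ(f.fiber s, ⊤) = d) : IsFinite f := by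
  haveI : IsSeparated f := by
    refine IsSeparated.of_valuativeCriterion f fun Sq => ⟨fun l₁ l₂ => CommSq.LiftStruct.ext ?_⟩
    let K' := AlgebraicClosure Sq.K
    obtain ⟨A, hA, hloc⟩ := IsLocalRing.exists_factor_valuationRing ((algebraMap Sq.K K').comp (algebraMap Sq.R Sq.K))
    let φ : Sq.R →+* A := RingHom.codRestrict _ A.toSubring hA
    have hφ : Function.Injective φ := fun x y e => IsFractionRing.injective Sq.R Sq.K
      ((algebraMap Sq.K K').injective (congrArg Subtype.val e))
    let v : Spec (CommRingCat.of A) ⟶ Spec (CommRingCat.of Sq.R) := Spec.map (CommRingCat.ofHom φ)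
    have hv : Spec.map (CommRingCat.ofHom (algebraMap A K')) ≫ v =
        Spec.map (CommRingCat.ofHom (algebraMap Sq.K K')) ≫ Spec.map (CommRingCat.ofHom (algebraMap Sq.R Sq.K)) := by
      rw [← Spec.map_comp, ← Spec.map_comp]
      rfl
    have e := sections_ext f d hd A K' (v ≫ Sq.i₂) (v ≫ l₁.l) (v ≫ l₂.l)
      (by rw [Category.assoc, l₁.fac_right]) (by rw [Category.assoc, l₂.fac_right])
      (by rw [← Category.assoc, hv, Category.assoc, l₁.fac_left, ← Category.assoc, hv, Category.assoc, l₂.fac_left])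
    refine hom_ext_local φ hφ _ _ e ?_
    have hcp : v (IsLocalRing.closedPoint A) = IsLocalRing.closedPoint Sq.R :=
      haveI : IsLocalHom φ := hloc
      IsLocalRing.comap_closedPoint φ
    have := congrArg (fun m => m.base (IsLocalRing.closedPoint A)) e
    simp only [Scheme.Hom.comp_apply] at this
    rwa [hcp] at this
  haveI : LocallyQuasiFinite f := locallyQuasiFinite_of_etale f
  haveI : IsProper f := {}
  exact IsFinite.of_isProper_of_locallyQuasiFinite f

end Groth.Agent.EtFin
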